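import Cfsg.Agent.H794.MonThirteen_m3
import Cfsg.Agent.CoOneType.CoQZ
import Cfsg.Agent.CoOneType.CoW
import Cfsg.Agent.BpSpor.Row.M
import Cfsg.Agent.MThirteen.FiveRow
import Cfsg.Agent.FastGrp
import Cfsg.Agent.Prune
set_option linter.all false

-- part: H131/T5M13C_mg
section
set_option linter.all false
open scoped Cfsg.Agent.FastGrp

-- part: H131/T5M13C
section
/-!
# Pairs of elements of order 13 in the abstract configuration of the Monster (helper131)
-/

set_option autoImplicit false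
set_option linter.unusedSectionVars false

namespace Cfsg.Agent.H131.T5M13

open Subgroup Cfsg.Agent.H131.T5Cube
open Cfsg.Agent.H533.T5

universe u

variable {G : Type u} [Group G] [Finite G] {x z t : G} {Q R W : Subgroup G}

theorem orderOf_conj' (g y : G) : orderOf (g * y * g⁻¹) = orderOf y :=
  orderOf_injective (MulAut.conj g).toMonoidHom (MulAut.conj g).injective y

/-- elements commuting with no conjugate of `z` have conjugates in `R` -/
theorem D.bad_mem (h : D x z t Q) (hr : RW x R W) {a : G} (ha : orderOf a = 13) :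
    ∃ g : G, g * a * g⁻¹ ∈ R := by
  obtain ⟨g, hg⟩ := exists_conj_le hr.cu.card h.hyp.h4 (zp ha)
  exact ⟨g, hg a (mem_zpowers a)⟩

/-- the elements of order 13 commuting with no conjugate of `z` are conjugate up to powers -/
theorem D.bad_conj' (h : D x z t Q) (hr : RW x R W) {a b : G} (ha : orderOf a = 13) (hb : orderOf b = 13)
    (hza : ¬ TB z a) (hzb : ¬ TB z b) : ∃ k : ℤ, IsConj (a ^ k) b := by
  obtain ⟨g, hg⟩ := h.bad_mem hr ha
  obtain ⟨g', hg'⟩ := h.bad_mem hr hb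
  obtain ⟨k, hk⟩ := h.bad_conj hr hg hg' (fun h1 => hza (h1.of_isConj (isConj_iff.2 ⟨g, rfl⟩ :
    IsConj a (g * a * g⁻¹)).symm)) (fun h1 => hzb (h1.of_isConj (isConj_iff.2 ⟨g', rfl⟩ :
    IsConj b (g' * b * g'⁻¹)).symm))
  refine ⟨k, ?_⟩
  have h1 : IsConj (a ^ k) ((g * a * g⁻¹) ^ k) := isConj_iff.2 ⟨g, by rw [conj_zpow]⟩
  exact (h1.trans hk).trans (isConj_iff.2 ⟨g', rfl⟩ : IsConj b (g' * b * g'⁻¹)).symm

/-- `13 ^ 3` does not divide `|C(a)|` -/
theorem D.bad_cent (h : D x z t Q) (hr : RW x R W) {a : G} (ha : orderOf a = 13) (hza : ¬ TB z a) :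
    ¬ 13 ^ 3 ∣ Nat.card ↥(centralizer ({a} : Set G)) := by
  have hp : Fact (Nat.Prime 13) := ⟨by norm_num⟩
  intro hd
  obtain ⟨P, hP⟩ := Sylow.exists_subgroup_card_pow_prime (G := ↥(centralizer ({a} : Set G))) 13 hd
  let P' : Subgroup G := P.map (centralizer ({a} : Set G)).subtype
  have hP' : Nat.card ↥P' = 13 ^ 3 := by
    rw [Subgroup.card_map_of_injective (Subgroup.subtype_injective _), hP]
  have hPa : ∀ b ∈ P', b * a = a * b := by
    rintro _ ⟨b, -, rfl⟩
    exact mem_centralizer_singleton_iff.1 b.2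
  -- `a ∈ P'`
  have h1 : IsPGroup 13 ↥(P' ⊔ zpowers a) := by
    refine (IsPGroup.of_card hP').to_sup_of_normal_right' (zp ha) ?_
    intro b hb
    refine mem_normalizer_of ?_
    intro c hc
    obtain ⟨k, rfl⟩ := mem_zpowers_iff.1 hc
    have h2 : b * a ^ k * b⁻¹ = a ^ k := by
      rw [mul_inv_eq_iff_eq_mul]
      exact ((show Commute b a from hPa b hb).zpow_right k).eq
    rw [h2]
    exact zpow_mem (mem_zpowers a) k
  have h2 : P' = P' ⊔ zpowers a := by
    refine Subgroup.eq_of_le_of_card_ge le_sup_left ?_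
    obtain ⟨n, hn⟩ := IsPGroup.iff_card.1 h1
    rw [hn, hP']
    refine Nat.pow_le_pow_right (by norm_num) ?_
    by_contra hlt
    exact h.hyp.h4 ((pow_dvd_pow 13 (by omega)).trans (hn ▸ Subgroup.card_subgroup_dvd_card _))
  have haP : a ∈ P' := by rw [h2]; exact mem_sup_right (mem_zpowers a)
  obtain ⟨g, hg⟩ := exists_conj_le hr.cu.card h.hyp.h4 (IsPGroup.of_card hP')
  have h3 : P'.map (MulAut.conj g).toMonoidHom = R := by
    refine Subgroup.eq_of_le_of_card_ge ?_ ?_
    · rintro _ ⟨b, hb, rfl⟩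
      exact hg b hb
    · rw [Subgroup.card_map_of_injective (MulAut.conj g).injective, hP', hr.cu.card]
  have h4 : g * a * g⁻¹ ∈ zpowers x := by
    refine hr.cu.mem_of_central (hg a haP) ?_
    intro r hrR
    rw [← h3] at hrR
    obtain ⟨b, hb, rfl⟩ := hrR
    show g * b * g⁻¹ * (g * a * g⁻¹) = g * a * g⁻¹ * (g * b * g⁻¹)
    calc g * b * g⁻¹ * (g * a * g⁻¹) = g * (b * a) * g⁻¹ := by group
      _ = g * (a * b) * g⁻¹ := by rw [hPa b hb]
      _ = _ := by group
  obtain ⟨k, hk⟩ := mem_zpowers_iff.1 h4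
  exact hza (h.tb_of_pow (k := k) (isConj_iff.2 ⟨g, hk.symm⟩))

/-- **the mixed pairs** -/
theorem D.mixed_x (h : D x z t Q) (hr : RW x R W) {a : G} (ha : orderOf a = 13) (haR : a ∈ R) (hza : ¬ TB z a) :
    WPair 13 (⊤ : Subgroup G) a x := by
  have hp : Fact (Nat.Prime 13) := ⟨by norm_num⟩
  have hax : a ∉ zpowers x := by
    intro h1
    obtain ⟨k, hk⟩ := mem_zpowers_iff.1 h1
    exact hza (h.tb_of_pow (k := k) (by rw [hk]))
  by_contra hcon
  have hall : ∀ g : G, IsPGroup 13 ↥(Subgroup.closure ({a, g * x * g⁻¹} : Set G)) := by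
    intro g
    by_contra h1
    exact hcon ⟨g, mem_top g, h1⟩
  obtain ⟨r, hrR, hra⟩ := hr.cu.exists_conj haR hax (mem_zpowers x)
  have hall2 : ∀ g : G, IsPGroup 13 ↥(Subgroup.closure ({a * x, g * x * g⁻¹} : Set G)) := by
    intro g
    have h1 := (isPGroup_closure_pair_conj_iff (p := 13) r a (r⁻¹ * g * x * (r⁻¹ * g)⁻¹)).mpr (hall (r⁻¹ * g))
    have e : r * (r⁻¹ * g * x * (r⁻¹ * g)⁻¹) * r⁻¹ = g * x * g⁻¹ := by group
    rwa [e, hra] at h1
  have hax' : a * x = x * a := hr.cu.cen a haR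
  have hxC : x ∈ centralizer ({a} : Set G) := mem_centralizer_singleton_iff.2 hax'.symm
  let x' : ↥(centralizer ({a} : Set G)) := ⟨x, hxC⟩
  -- Baer-Suzuki in `C(a)`
  have hpairs : ∀ g : ↥(centralizer ({a} : Set G)), IsPGroup 13
      (Subgroup.closure {x', g * x' * g⁻¹} : Subgroup ↥(centralizer ({a} : Set G))) := by
    intro g
    have hga : (g : G) * a = a * g := mem_centralizer_singleton_iff.1 g.2
    have h1 : IsPGroup 13 ↥(Subgroup.closure ({a * x, (g : G) * x * (g : G)⁻¹} : Set G) ⊔ zpowers a) := by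
      refine (hall2 g).to_sup_of_normal_right' (zp ha) ?_
      have h2 : Subgroup.closure ({a * x, (g : G) * x * (g : G)⁻¹} : Set G) ≤ centralizer ({a} : Set G) := by
        rw [closure_le]
        rintro b (rfl | rfl)
        · show _ ∈ centralizer ({a} : Set G)
          rw [mem_centralizer_singleton_iff, mul_assoc, ← hax']
        · exact mul_mem (mul_mem g.2 hxC) (inv_mem g.2)
      intro b hb
      have h3 : b * a = a * b := mem_centralizer_singleton_iff.1 (h2 hb)
      refine mem_normalizer_of ?_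
      intro c hc
      obtain ⟨k, rfl⟩ := mem_zpowers_iff.1 hc
      have h4 : b * a ^ k * b⁻¹ = a ^ k := by
        rw [mul_inv_eq_iff_eq_mul]
        exact ((show Commute b a from h3).zpow_right k).eq
      rw [h4]
      exact zpow_mem (mem_zpowers a) k
    have h2 : (Subgroup.closure {x', g * x' * g⁻¹} : Subgroup ↥(centralizer ({a} : Set G))).map
        (centralizer ({a} : Set G)).subtype ≤
        Subgroup.closure ({a * x, (g : G) * x * (g : G)⁻¹} : Set G) ⊔ zpowers a := by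
      rw [closure_pair_map, closure_le]
      rintro b (hb | hb)
      · have hbx : b = x := hb
        show b ∈ _
        have h3 : b = a⁻¹ * (a * x) := by rw [hbx]; group
        rw [h3]
        exact mul_mem (mem_sup_right (inv_mem (mem_zpowers a))) (mem_sup_left (subset_closure (by simp)))
      · have hbx : b = (g : G) * x * (g : G)⁻¹ := hb
        show b ∈ _
        rw [hbx]
        exact mem_sup_left (subset_closure (by simp))
    have h3 := h1.to_le h2
    exact h3.of_equiv (Subgroup.equivMapOfInjective _ _ (Subgroup.subtype_injective _)).symm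
  have hN := Cfsg.Agent.Involutions.BaerSuzuki.baer_suzuki_element (p := 13) x' hpairs
  -- the normal subgroup `E`
  let a' : ↥(centralizer ({a} : Set G)) := ⟨a, mem_centralizer_singleton_iff.2 rfl⟩
  have hac : ∀ g : ↥(centralizer ({a} : Set G)), g * a' = a' * g := fun g =>
    Subtype.ext (mem_centralizer_singleton_iff.1 g.2)
  have han : (zpowers a').Normal := by
    constructor
    intro c hc g
    obtain ⟨k, rfl⟩ := mem_zpowers_iff.1 hc
    have h4 : g * a' ^ k * g⁻¹ = a' ^ k := by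
      rw [mul_inv_eq_iff_eq_mul]
      exact ((show Commute g a' from hac g).zpow_right k).eq
    rw [h4]
    exact zpow_mem (mem_zpowers a') k
  have hap : IsPGroup 13 ↥(zpowers a') := zp (by rw [Subgroup.orderOf_mk, ha])
  set N : Subgroup ↥(centralizer ({a} : Set G)) := Subgroup.normalClosure {x'} with hNdef
  have hNn : N.Normal := Subgroup.normalClosure_normal
  have hEp : IsPGroup 13 ↥(N ⊔ zpowers a') := hN.to_sup_of_normal_right hap
  have hEn : (N ⊔ zpowers a').Normal := inferInstance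
  have hxN : x' ∈ N ⊔ zpowers a' := mem_sup_left (Subgroup.subset_normalClosure rfl)
  have haN : a' ∈ N ⊔ zpowers a' := mem_sup_right (mem_zpowers a')
  have hEc : Nat.card ↥(N ⊔ zpowers a') ≤ 13 ^ 2 := by
    obtain ⟨n, hn⟩ := IsPGroup.iff_card.1 hEp
    rw [hn]
    refine Nat.pow_le_pow_right (by norm_num) ?_
    by_contra hlt
    exact h.bad_cent hr ha hza ((pow_dvd_pow 13 (by omega)).trans (hn ▸ Subgroup.card_subgroup_dvd_card _))
  -- `E = R ∩ C(a)`
  have hEeq : (N ⊔ zpowers a').map (centralizer ({a} : Set G)).subtype = R ⊓ centralizer ({a} : Set G) := by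
    have h5 := hr.cu.card_cent haR hax
    symm
    refine Subgroup.eq_of_le_of_card_ge ?_ (by
      rw [Subgroup.card_map_of_injective (Subgroup.subtype_injective _), h5]; exact hEc)
    intro e he
    obtain ⟨k, c, hc, hk⟩ := exists_pow hr.cu (hr.cu.cent_mem haR hax)
      (mem_inf.2 ⟨haR, mem_centralizer_singleton_iff.2 rfl⟩) hax he
    obtain ⟨j, rfl⟩ := mem_zpowers_iff.1 hc
    refine ⟨a' ^ k * x' ^ j, mul_mem (zpow_mem haN k) (zpow_mem hxN j), ?_⟩
    rw [hk]
    rfl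
  -- a conjugate of `t` in `C(a)`
  obtain ⟨a0, ha0, hat0, hb0⟩ := h.exists_bad
  obtain ⟨k, hk⟩ := h.bad_conj' hr ha0 ha hb0 hza
  obtain ⟨c, hc⟩ := isConj_iff.1 hk
  have htC : (c * t * c⁻¹) * a = a * (c * t * c⁻¹) := by
    rw [← hc]
    have h1 : Commute t (a0 ^ k) := (show Commute t a0 from hat0.symm).zpow_right k
    calc c * t * c⁻¹ * (c * a0 ^ k * c⁻¹) = c * (t * a0 ^ k) * c⁻¹ := by group
      _ = c * (a0 ^ k * t) * c⁻¹ := by rw [h1.eq]
      _ = _ := by group
  have htt : IsConj t (c * t * c⁻¹) := isConj_iff.2 ⟨c, rfl⟩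
  refine h.not_norm htt ?_
  -- `t'` normalizes `⟨x⟩`
  have h6 : (c * t * c⁻¹) * x * (c * t * c⁻¹)⁻¹ ∈ R ⊓ centralizer ({a} : Set G) := by
    rw [← hEeq]
    exact ⟨_, hEn.conj_mem x' hxN ⟨c * t * c⁻¹, mem_centralizer_singleton_iff.2 htC⟩, rfl⟩
  have h7 : (c * t * c⁻¹) * x * (c * t * c⁻¹)⁻¹ ∈ zpowers x := by
    by_contra hnot
    have hEa := hr.cu.cent_mem haR hax
    -- `a` is, up to `⟨x⟩`, a power of this element
    obtain ⟨i, d, hd, hi⟩ := exists_pow hr.cu hEa h6 hnot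
      (mem_inf.2 ⟨haR, mem_centralizer_singleton_iff.2 rfl⟩ : a ∈ R ⊓ centralizer ({a} : Set G))
    set v := (c * t * c⁻¹) * x * (c * t * c⁻¹)⁻¹ with hv
    have h8 : v ^ i ∉ zpowers x := by
      intro h9
      apply hax
      rw [hi]
      exact mul_mem h9 hd
    obtain ⟨s, hs, hsv⟩ := hr.cu.exists_conj (zpow_mem (mem_inf.1 h6).1 i) h8 hd
    have h10 : IsConj (x ^ i) (v ^ i) := isConj_iff.2 ⟨c * t * c⁻¹, by rw [hv, conj_zpow]⟩
    have h11 : IsConj (v ^ i) a := isConj_iff.2 ⟨s, by rw [hsv, ← hi]⟩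
    exact hza (h.tb_of_pow (h10.trans h11).symm)
  intro d hd
  obtain ⟨j, rfl⟩ := mem_zpowers_iff.1 hd
  rw [← conj_zpow]
  exact zpow_mem h7 j

/-- the mixed pairs -/
theorem D.mixed (h : D x z t Q) (hr : RW x R W) {a b : G} (ha : orderOf a = 13) (hb : orderOf b = 13)
    (hza : ¬ TB z a) (hzb : TB z b) : WPair 13 (⊤ : Subgroup G) a b := by
  obtain ⟨g, hg⟩ := h.bad_mem hr ha
  have hza' : ¬ TB z (g * a * g⁻¹) := fun h1 => hza (h1.of_isConj (isConj_iff.2 ⟨g, rfl⟩ :
    IsConj a (g * a * g⁻¹)).symm)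
  have h1 := h.mixed_x hr (by rw [orderOf_conj', ha]) hg hza'
  refine WPair.conj_left (mem_top g) ?_
  obtain ⟨k, hk⟩ := h.tb_pow hb hzb
  obtain ⟨c, hc⟩ := isConj_iff.1 hk
  -- `x` is a power of `c b c⁻¹`
  have hne : x ^ k ≠ 1 := by
    intro h2
    rw [← hc] at h2
    have h3 : orderOf (c * b * c⁻¹) = 13 := by rw [orderOf_conj', hb]
    rw [h2, orderOf_one] at h3
    exact absurd h3 (by norm_num)
  have hp : Fact (Nat.Prime 13) := ⟨by norm_num⟩
  have hcard : Nat.card ↥(zpowers x) = 13 := by rw [Nat.card_zpowers, h.hyp.hx]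
  have hgen : (⟨x, mem_zpowers x⟩ : ↥(zpowers x)) ∈
      zpowers (⟨x ^ k, pow_mem (mem_zpowers x) k⟩ : ↥(zpowers x)) :=
    mem_zpowers_of_prime_card hcard (fun h3 => hne (congrArg Subtype.val h3))
  obtain ⟨j, hj⟩ := mem_zpowers_iff.1 hgen
  have hj' : (x ^ k) ^ j = x := congrArg Subtype.val hj
  refine WPair.conj_right (mem_top c) ?_
  rw [hc]
  refine WPair.of_pow 1 j ?_
  rw [hj', zpow_one]
  exact h1

theorem exists_nat_pow {y : G} (k : ℤ) : ∃ j : ℕ, y ^ j = y ^ k := by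
  classical
  have h2 : y ^ k ∈ zpowers y := zpow_mem (mem_zpowers y) k
  rw [mem_zpowers_iff_mem_range_orderOf] at h2
  obtain ⟨j, -, hj⟩ := Finset.mem_image.1 h2
  exact ⟨j, hj⟩

/-- **all pairs of elements of order 13** -/
theorem D.pairs [IsSimpleGroup G] (hna : ¬ IsMulCommutative G) (h : D x z t Q) {a b : G}
    (ha : orderOf a = 13) (hb : orderOf b = 13) : WPair 13 (⊤ : Subgroup G) a b := by
  have hp : Fact (Nat.Prime 13) := ⟨by norm_num⟩
  have hne : ∀ {c : G}, orderOf c = 13 → c ≠ 1 := by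
    rintro c hc rfl
    rw [orderOf_one] at hc
    exact absurd hc (by norm_num)
  by_cases hab : ∀ S : Sylow 13 G, ∃ a ∈ (S : Subgroup G), ∃ b ∈ (S : Subgroup G), a * b ≠ b * a
  · obtain ⟨R, W, hr⟩ := h.exists_RW hab
    by_cases hza : TB z a <;> by_cases hzb : TB z b
    · obtain ⟨i, hi⟩ := h.tb_pow ha hza
      obtain ⟨j, hj⟩ := h.tb_pow hb hzb
      -- both are conjugate to powers of `x`
      have hcard : Nat.card ↥(zpowers x) = 13 := by rw [Nat.card_zpowers, h.hyp.hx]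
      have hxi : x ^ i ≠ 1 := by
        intro h1
        rw [h1] at hi
        exact hne ha (isConj_one_right.1 hi.symm)
      have hxj : x ^ j ≠ 1 := by
        intro h1
        rw [h1] at hj
        exact hne hb (isConj_one_right.1 hj.symm)
      have hgen : (⟨x ^ i, pow_mem (mem_zpowers x) i⟩ : ↥(zpowers x)) ∈
          zpowers (⟨x ^ j, pow_mem (mem_zpowers x) j⟩ : ↥(zpowers x)) :=
        mem_zpowers_of_prime_card hcard (fun h3 => hxj (congrArg Subtype.val h3))
      obtain ⟨m, hm⟩ := mem_zpowers_iff.1 hgen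
      have hm' : (x ^ j) ^ m = x ^ i := congrArg Subtype.val hm
      obtain ⟨m', hm1⟩ := exists_nat_pow (y := x ^ j) m
      obtain ⟨c, hc⟩ := isConj_iff.1 hj
      have h2 : IsConj (b ^ m') (x ^ i) := by
        refine isConj_iff.2 ⟨c, ?_⟩
        rw [← conj_pow, hc, hm1, hm']
      refine wpair_of_isConj hna (i := 1) (j := m') ?_ (by rw [pow_one]; exact hne ha)
      rw [pow_one]
      exact h2.trans hi.symm
    · exact (h.mixed hr hb ha hzb hza).symm
    · exact h.mixed hr ha hb hza hzb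
    · obtain ⟨k, hk⟩ := h.bad_conj' hr hb ha hzb hza
      obtain ⟨j, hj⟩ := exists_nat_pow (y := b) k
      refine wpair_of_isConj hna (i := 1) (j := j) ?_ (by rw [pow_one]; exact hne ha)
      rw [pow_one, hj]
      exact hk
  · push Not at hab
    obtain ⟨S, hS⟩ := hab
    refine wpair_top_of_sylow_comm hna S ⟨⟨fun u v => Subtype.ext (hS u u.2 v v.2)⟩⟩ (hne ha) (hne hb)

end Cfsg.Agent.H131.T5M13
end

-- part: H131/T5M13D
section
/-!
# An element of `Co0` raising the element `u` of order 13 to its fifth power (helper131)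
-/

set_option autoImplicit false
set_option maxRecDepth 100000

namespace Cfsg.Agent.H131.T5M13D

open Cfsg Cfsg.Agent.SporadicA Cfsg.Agent.SporadicStructure.Co0Matrix Cfsg.Agent.CoOneType.CoEval
open Cfsg.Agent.LThreeCo1.Ev
open Cfsg.Agent.CoOneType.ClosingFacts (mk_mul)
open Cfsg.Spor (Co1)

/-- code of a matrix -/
def nN : ℕ := 477689616417573119236108451438476144768754531331765414197071760945780165595926807859449728137717012163162043753328282660401683596458270470674735021189132666672004013770917135606360514907834686096003863439675842972113287315770472009230633812279167015109792058204635533110302171647504060459229131269507339382584813946519972473206480432539941794423197893668695318681047242478522431146040062478921043958139131370512054658537647897363944592980262402239542155917545777301730813992693760445929787361928933994068827590537681973387418892295265482287863348052268248779566216589551450170919800739885912370871959635906199056017799742476083312980611034799606041895031231843533957302539803571448006412481798424011965523358587275369649106639004793018722359422762536589806082061791610548191998797173470054780899161365030224929370759754172455012588558581746738485442421201742881899024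

theorem okN' : Ok (dec nN) (tr (dec nN)) := ok_of_okN (by exact Cfsg.Agent.CoOneType.CoQ.okz_of (by decide +kernel))

/-- the matrices -/
def M : ℕ → List (List ℤ)
  | 0 => dec nN
  | _ => dec Cfsg.Agent.H794.MonData.nU

theorem okM (i : ℕ) : Ok (M i) (tr (M i)) := by
  unfold M
  split
  · exact okN'
  · exact Cfsg.Agent.H794.MonData.okU

/-- the elements -/
noncomputable def e (i : ℕ) : Co0 := Cfsg.Agent.SporadicStructure.Co0Matrix.mk (okM i)

theorem rep (i : ℕ) : Rep (e i) (M i) := rep_mk (okM i)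

theorem nu : e 0 * e 1 = e 1 ^ 5 * e 0 := by
  have h := eq_of_eqB (w := [0, 1]) (w' := [1, 1, 1, 1, 1, 0]) rep (by (delta Cfsg.Agent.LThreeCo1.Ev.eqB; rewrite [Cfsg.Agent.CoOneType.CoW.of_eq Cfsg.Agent.LThreeCo1.Ev.foldZ_eq]; decide +kernel))
  simpa only [List.map_cons, List.map_nil, List.prod_cons, List.prod_nil, mul_one, pow_succ, pow_zero, one_mul,
    mul_assoc] using h

theorem nu' : e 0 * Cfsg.Agent.H794.MonData.e 3 = Cfsg.Agent.H794.MonData.e 3 ^ 5 * e 0 := nu

/-- the image in `Co1` -/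
noncomputable def n : Co1 := CoOneType.ClosingFacts.mk (e 0)

theorem ns : n * CoOneType.ClosingFacts.mk (Cfsg.Agent.H794.MonData.e 3) * n⁻¹ = CoOneType.ClosingFacts.mk (Cfsg.Agent.H794.MonData.e 3) ^ 5 := by
  have h := congrArg CoOneType.ClosingFacts.mk nu'
  have h2 : CoOneType.ClosingFacts.mk (Cfsg.Agent.H794.MonData.e 3 ^ 5) = CoOneType.ClosingFacts.mk (Cfsg.Agent.H794.MonData.e 3) ^ 5 := by
    simp only [pow_succ, pow_zero, one_mul, mk_mul]
  rw [mk_mul, mk_mul, h2] at h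
  rw [mul_inv_eq_iff_eq_mul]
  exact h

end Cfsg.Agent.H131.T5M13D
end
end

-- part: H131/T5M13
section
set_option linter.all false
open scoped Cfsg.Agent.FastGrp

/-!
# T5 row of the Monster for `p = 13` (helper131)
-/

set_option autoImplicit false
set_option maxRecDepth 100000

namespace Cfsg.Agent.H131.T5M13

open Subgroup Cfsg Cfsg.Agent.H794.MonLift Cfsg.Agent.H794.MonThirteen
open Cfsg.Agent.LThreeMB (fr KChart.Cent KChart.pi KChart.chart)
open Cfsg.Agent.MonsterU Cfsg.Agent.MonsterU.Ch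
open Cfsg.Agent.MonsterU.Lam2 (L2)
open Cfsg.Agent.MonsterX Cfsg.Agent.MonsterX.MainPack
open Cfsg.Spor (Co1)

universe u

/-- **the configuration in the Monster** -/
theorem model_D : ∃ (x z t : ↥InstData.M.G) (Q : Subgroup ↥InstData.M.G), D x z t Q := by
  have hfin := MFive.Row.finite_model
  have hc := MFive.Row.hc
  have h := KChart.chart KDone.lft hc
  have h13 : Nat.Prime 13 := by norm_num
  obtain ⟨x, hx, hxs⟩ := MFive.KPair.exists_order h h13 (by decide) orderOf_s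
  have hx13 : x ^ 13 = 1 := by rw [← hx, pow_orderOf_eq_one]
  have hfr : fr (KChart.pi hc x) = 1 := BpMon.Thirteen.fr_pi KDone.lft hc hx
  have hzx : KDone.K.z * (x : ↥InstData.M.G) = x * KDone.K.z := (mem_centralizer_singleton_iff.1 x.2).symm
  have only : ∀ t : ↥InstData.M.G, t * x = x * t → t * KDone.K.z = KDone.K.z * t → t * t = 1 → t = 1 ∨ t = KDone.K.z := by
    intro t htx htz htt
    by_cases ht : t = 1
    · exact Or.inl ht
    · right
      exact BpMon.Thirteen.only_inv KDone.lft hc (x := x) (t := ⟨t, mem_centralizer_singleton_iff.2 htz⟩) hx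
        (Subtype.ext htt) (fun h1 => ht (congrArg Subtype.val h1)) (Subtype.ext htx.symm)
  obtain ⟨k, hk, hkm⟩ := exists_mem h h13 (by decide) hx13 (V := V) b_mem (by rw [hxs]; exact bs)
  obtain ⟨l, hl, hlm⟩ := exists_mem h h13 (by decide) hx13 (V := V) c_mem (by rw [hxs]; exact cs)
  refine ⟨x, KDone.K.z, tG KDone.mGroup KDone.mRep, Cfsg.Agent.H794.MonLift.lft (KChart.pi hc) x V, ⟨?_, ?_, ?_, ?_, ?_, ?_, ?_⟩⟩
  · refine ⟨?_, by rw [orderOf_coe, hx], by norm_num, hzx, only, isPGroup_lft h (by decide) hx13 hfr fun v hv => V_sq hv,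
      fun q hq => lft_x hq, fun q hq => lft_z hq, z_mem h, ⟨k, hkm, l, hlm, not_comm h hx13 hfr only hk hl (lft_x hkm)
        (lft_x hlm)⟩, ?_, ?_, ?_⟩
    · have : Fact (Nat.Prime 2) := ⟨Nat.prime_two⟩
      exact orderOf_eq_prime (by rw [pow_two]; exact h.large.z_sq) h.large.z_ne
    · intro h7
      have h1 := h7.trans (BpRankZero.Seven.card_cz h)
      rw [Cfsg.Agent.MonsterU.CoFrameF.card_Co1] at h1
      norm_num at h1
    · rw [Cfsg.Agent.MonsterP.EquivOf.isM_model.2]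
      norm_num
    · rw [Cfsg.Agent.MonsterP.EquivOf.isM_model.2]
      norm_num
  · -- the order of `t`
    have : Fact (Nat.Prime 2) := ⟨Nat.prime_two⟩
    exact orderOf_eq_prime (by rw [pow_two]; exact Subtype.ext KDone.mRep.t₀_sq)
      fun h => KDone.mRep.t₀_ne (congrArg Subtype.val h)
  · -- `z` and `t` are not conjugate
    intro hcj
    obtain ⟨g, hg⟩ := isConj_iff.1 hcj.symm
    exact MThirteen.Row.ta_ne (t := tG KDone.mGroup KDone.mRep) (IsConj.refl _) g hg
  · -- the classes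
    intro v hv
    have hv1 : v ≠ 1 := by
      rintro rfl
      rw [orderOf_one] at hv
      exact absurd hv (by norm_num)
    rcases MFive.Row.two v (by rw [← pow_two, ← hv, pow_orderOf_eq_one]) hv1 with ⟨g, hg⟩ | ⟨g, hg⟩
    · exact Or.inl (isConj_iff.2 ⟨g, hg⟩)
    · exact Or.inr (isConj_iff.2 ⟨g, hg⟩)
  · -- the centralizer of `t`
    have h1 : Nat.card ↥(centralizer ({tG KDone.mGroup KDone.mRep} : Set ↥InstData.M.G)) = _ :=
      card_cent_t Instance.mGroup Instance.mRep Instance.mLat InstanceFinal.mOrbit Instance.mTrans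
    rw [h1]
    norm_num
  · -- six transpositions
    intro a b ha hb hab
    obtain ⟨g, rfl⟩ := isConj_iff.1 ha
    obtain ⟨g', rfl⟩ := isConj_iff.1 hb
    have h1 : orderOf (tG KDone.mGroup KDone.mRep * ((g⁻¹ * g') * tG KDone.mGroup KDone.mRep * (g⁻¹ * g')⁻¹)) ≤ 6 :=
      six Instance.mGroup Instance.mRep Instance.mLat InstanceFinal.mOrbit Instance.mTrans
        InstanceFinal.mExtra.order_le (g⁻¹ * g')
    have h2 := orderOf_conj' g (tG KDone.mGroup KDone.mRep * ((g⁻¹ * g') * tG KDone.mGroup KDone.mRep * (g⁻¹ * g')⁻¹))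
    have h3 : g * (tG KDone.mGroup KDone.mRep * ((g⁻¹ * g') * tG KDone.mGroup KDone.mRep * (g⁻¹ * g')⁻¹)) * g⁻¹ =
        g * tG KDone.mGroup KDone.mRep * g⁻¹ * (g' * tG KDone.mGroup KDone.mRep * g'⁻¹) := by group
    rw [h3, hab] at h2
    omega
  · -- the fifth power
    obtain ⟨c, hc'⟩ := MFive.exists_conj_of_conj h h13 (by decide) (x := x) (y := x ^ 5) (s := T5M13D.n) hx13
      (by rw [← pow_mul, mul_comm, pow_mul, hx13, one_pow]) (by
        rw [map_pow, hxs]
        exact T5M13D.ns)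
    refine ⟨c, ?_⟩
    have h1 := congrArg Subtype.val hc'
    simpa only [Subgroup.coe_mul, InvMemClass.coe_inv, SubmonoidClass.coe_pow] using h1

end Cfsg.Agent.H131.T5M13
end

-- part: H31/TwoCyc/MThirteen
section
prune_inst 0x7f00000000000000000000000000000000000000000000000000000000000000000000000000000000000000000000000000000000000000000000000000000000000000000000000000000000000000003fffffffffffffffffffffffffffbeffbdffffffff
set_option linter.all false
open scoped Cfsg.Agent.FastGrp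

/-!
# The Monster: elements of order a power of 13 (helper31)

`R` of order `p ^ 3`, `x ∈ Z(R)` of order `p`, the involution `z` normalizes `R`, `C_R(z) = ⟨x⟩`; a nonabelian group `Q`
of 2-elements commuting with `x` and `z` normalizes `R`: then `R` has exponent `p`.

* `thirteen` : 13-elements of the Monster have order dividing 13
-/

set_option autoImplicit false
set_option maxRecDepth 100000
set_option linter.unusedSectionVars false

namespace Cfsg.Agent.H31.TwoCyc.MThirteen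

open Subgroup Cfsg

universe u

section

variable {G : Type u} [Group G] [Finite G] {p : ℕ} [hp : Fact p.Prime] {x z : G} {R Q : Subgroup G}

/-- the Sylow subgroup of order `p ^ 3` -/
structure Cub (p : ℕ) (x z : G) (R : Subgroup G) : Prop where
  hx : orderOf x = p
  hp2 : p ≠ 2
  mem : x ∈ R
  cx : ∀ r ∈ R, r * x = x * r
  card : Nat.card ↥R = p ^ 3
  zz : z * z = 1
  zR : ∀ r ∈ R, z * r * z⁻¹ ∈ R
  zx : z * x = x * z
  cz : ¬ p ^ 2 ∣ Nat.card ↥(centralizer ({z} : Set G))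

theorem Cub.normal (h : Cub p x z R) : (zpowers (⟨x, h.mem⟩ : ↥R)).Normal := by
  constructor
  rintro _ ⟨i, rfl⟩ g
  refine ⟨i, ?_⟩
  have hc : Commute g ⟨x, h.mem⟩ := Subtype.ext (h.cx g g.2)
  show (⟨x, h.mem⟩ : ↥R) ^ i = g * (⟨x, h.mem⟩ : ↥R) ^ i * g⁻¹
  rw [(hc.zpow_right i).eq, mul_inv_cancel_right]

theorem Cub.card_quot (h : Cub p x z R) : Nat.card (↥R ⧸ zpowers (⟨x, h.mem⟩ : ↥R)) = p ^ 2 := by
  have h1 := (zpowers (⟨x, h.mem⟩ : ↥R)).card_mul_index
  rw [Nat.card_zpowers, Subgroup.orderOf_mk, h.hx, h.card] at h1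
  have h2 : p * (zpowers (⟨x, h.mem⟩ : ↥R)).index = p * p ^ 2 := by rw [h1]; ring
  exact Nat.eq_of_mul_eq_mul_left hp.out.pos h2

theorem Cub.comm (h : Cub p x z R) {a b : G} (ha : a ∈ R) (hb : b ∈ R) : ∃ i : ℤ, a * b = b * a * x ^ i := by
  have hn := h.normal
  have hcomm := (IsPGroup.isMulCommutative_of_card_eq_prime_sq h.card_quot).is_comm.comm
    (QuotientGroup.mk (⟨b, hb⟩ : ↥R)) (QuotientGroup.mk (⟨a, ha⟩ : ↥R))
  rw [← QuotientGroup.mk_mul, ← QuotientGroup.mk_mul, QuotientGroup.eq] at hcomm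
  obtain ⟨i, hi⟩ := hcomm
  refine ⟨i, ?_⟩
  have h1 : x ^ i = (b * a)⁻¹ * (a * b) := congrArg Subtype.val hi
  rw [h1, mul_inv_cancel_left]

theorem Cub.pow_p (h : Cub p x z R) (i : ℤ) : (x ^ i) ^ p = 1 := by
  rw [← zpow_natCast, ← zpow_mul, mul_comm, zpow_mul, zpow_natCast, ← h.hx, pow_orderOf_eq_one, one_zpow]

theorem Cub.eq_one (h : Cub p x z R) {i : ℤ} (h2 : (x ^ i) ^ 2 = 1) : x ^ i = 1 := by
  have h1 : orderOf (x ^ i) ∣ Nat.gcd p 2 := Nat.dvd_gcd (orderOf_dvd_of_pow_eq_one (h.pow_p i))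
    (orderOf_dvd_of_pow_eq_one h2)
  rw [(Nat.coprime_primes hp.out Nat.prime_two).2 h.hp2, Nat.dvd_one, orderOf_eq_one_iff] at h1
  exact h1

theorem Cub.fix (h : Cub p x z R) {r : G} (hr : r ∈ R) (hrz : r * z = z * r) : r ∈ zpowers x := by
  have hK : IsPGroup p ↥(R ⊓ centralizer ({z} : Set G)) := (IsPGroup.of_card h.card).to_le inf_le_left
  obtain ⟨k, hk⟩ := IsPGroup.iff_card.1 hK
  have hk1 : k ≤ 1 := by
    by_contra hcon
    apply h.cz
    refine (pow_dvd_pow p (by omega : 2 ≤ k)).trans ?_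
    rw [← hk]
    exact card_dvd_of_le inf_le_right
  have hle : zpowers x ≤ R ⊓ centralizer ({z} : Set G) :=
    zpowers_le.2 (mem_inf.2 ⟨h.mem, mem_centralizer_singleton_iff.2 h.zx.symm⟩)
  have he : zpowers x = R ⊓ centralizer ({z} : Set G) := by
    refine Subgroup.eq_of_le_of_card_ge hle ?_
    rw [hk, Nat.card_zpowers, h.hx]
    calc p ^ k ≤ p ^ 1 := Nat.pow_le_pow_right hp.out.pos hk1
      _ = p := pow_one p
  rw [he]
  exact mem_inf.2 ⟨hr, mem_centralizer_singleton_iff.2 hrz⟩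

theorem Cub.conj_x (h : Cub p x z R) (i : ℤ) : z * x ^ i * z⁻¹ = x ^ i := by
  rw [((show Commute z x from h.zx).zpow_right i).eq, mul_inv_cancel_right]

/-- `z` inverts `R / ⟨x⟩` -/
theorem Cub.inv (h : Cub p x z R) {w : G} (hw : w ∈ R) : ∃ j : ℤ, z * w * z⁻¹ = w⁻¹ * x ^ j := by
  obtain ⟨i, hi⟩ := h.comm (h.zR w hw) hw
  have h1 : z * (w * (z * w * z⁻¹)) * z⁻¹ = w * (z * w * z⁻¹) * x ^ i := by
    rw [← hi]
    calc z * (w * (z * w * z⁻¹)) * z⁻¹ = (z * w * z⁻¹) * ((z * z) * w * (z * z)⁻¹) := by group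
      _ = (z * w * z⁻¹) * w := by rw [h.zz]; group
  have h2 : w * (z * w * z⁻¹) = w * (z * w * z⁻¹) * ((x ^ i) ^ 2) := by
    calc w * (z * w * z⁻¹) = (z * z) * (w * (z * w * z⁻¹)) * (z * z)⁻¹ := by rw [h.zz]; group
      _ = z * (z * (w * (z * w * z⁻¹)) * z⁻¹) * z⁻¹ := by group
      _ = z * (w * (z * w * z⁻¹) * x ^ i) * z⁻¹ := by rw [h1]
      _ = (z * (w * (z * w * z⁻¹)) * z⁻¹) * (z * x ^ i * z⁻¹) := by group
      _ = w * (z * w * z⁻¹) * x ^ i * x ^ i := by rw [h1, h.conj_x]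
      _ = _ := by rw [mul_assoc, ← pow_two]
  have h3 : x ^ i = 1 := h.eq_one (mul_eq_left.1 h2.symm)
  rw [h3, mul_one] at h1
  obtain ⟨j, hj⟩ := mem_zpowers_iff.1 (h.fix (mul_mem hw (h.zR w hw)) (mul_inv_eq_iff_eq_mul.1 h1).symm)
  exact ⟨j, by rw [hj, inv_mul_cancel_left]⟩

theorem Cub.comm_x (h : Cub p x z R) {r : G} (hr : r ∈ R) (i : ℤ) : Commute r (x ^ i) :=
  (show Commute r x from h.cx r hr).zpow_right i

/-- **`R` has exponent `p`** -/
theorem Cub.exp (h : Cub p x z R) (hQ : ∀ q ∈ Q, (∀ r ∈ R, q * r * q⁻¹ ∈ R) ∧ q * x = x * q ∧ q * z = z * q)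
    {k l : G} (hk : k ∈ Q) (hl : l ∈ Q)
    (hno : ¬ ∀ r ∈ R, (k * l * k⁻¹ * l⁻¹) * r * (k * l * k⁻¹ * l⁻¹)⁻¹ = r) {w : G} (hw : w ∈ R) : w ^ p = 1 := by
  have hn := h.normal
  by_cases hwp : w ^ p ∈ zpowers x
  · obtain ⟨j, hj⟩ := h.inv hw
    obtain ⟨i, hi⟩ := mem_zpowers_iff.1 hwp
    have h1 : z * w ^ p * z⁻¹ = w ^ p := by rw [← hi, h.conj_x]
    have h2 : z * w ^ p * z⁻¹ = (w ^ p)⁻¹ := by
      rw [← conj_pow, hj, (h.comm_x (inv_mem hw) j).mul_pow, h.pow_p, mul_one, inv_pow]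
    rw [h1] at h2
    have h3 : (w ^ p) ^ 2 = 1 := by
      rw [pow_two]
      nth_rewrite 1 [h2]
      exact inv_mul_cancel _
    rw [← hi] at h3 ⊢
    exact h.eq_one h3
  · exfalso
    apply hno
    -- `R = ⟨w, x⟩`
    have hgen : ∀ r ∈ R, ∃ a b : ℤ, r = w ^ a * x ^ b := by
      intro r hr
      have h1 : orderOf (QuotientGroup.mk (⟨w, hw⟩ : ↥R) : ↥R ⧸ zpowers (⟨x, h.mem⟩ : ↥R)) = p ^ (1 + 1) := by
        refine orderOf_eq_prime_pow ?_ ?_
        · rw [pow_one, ← QuotientGroup.mk_pow]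
          intro h2
          rw [QuotientGroup.eq_one_iff] at h2
          apply hwp
          obtain ⟨i, hi⟩ := h2
          exact ⟨i, congrArg Subtype.val hi⟩
        · rw [← orderOf_dvd_iff_pow_eq_one]
          have h2 := orderOf_dvd_natCard (QuotientGroup.mk (⟨w, hw⟩ : ↥R) : ↥R ⧸ zpowers (⟨x, h.mem⟩ : ↥R))
          rwa [h.card_quot] at h2
      have h2 : zpowers (QuotientGroup.mk (⟨w, hw⟩ : ↥R) : ↥R ⧸ zpowers (⟨x, h.mem⟩ : ↥R)) = ⊤ := by
        apply Subgroup.eq_top_of_card_eq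
        rw [Nat.card_zpowers, h1, h.card_quot]
      have h3 : (QuotientGroup.mk (⟨r, hr⟩ : ↥R) : ↥R ⧸ zpowers (⟨x, h.mem⟩ : ↥R)) ∈
          zpowers (QuotientGroup.mk (⟨w, hw⟩ : ↥R) : ↥R ⧸ zpowers (⟨x, h.mem⟩ : ↥R)) := by
        rw [h2]; trivial
      obtain ⟨a, ha⟩ := mem_zpowers_iff.1 h3
      rw [← QuotientGroup.mk_zpow, QuotientGroup.eq] at ha
      obtain ⟨b, hb⟩ := ha
      refine ⟨a, b, ?_⟩
      have h4 : x ^ b = (w ^ a)⁻¹ * r := congrArg Subtype.val hb
      rw [h4, mul_inv_cancel_left]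
    -- an inverted generator
    obtain ⟨j, hj⟩ := h.inv hw
    obtain ⟨c, hc⟩ : ∃ c : ℕ, p = 2 * c + 1 := by
      obtain ⟨c, hc⟩ := hp.out.odd_of_ne_two h.hp2
      exact ⟨c, hc⟩
    obtain ⟨v, hv⟩ : ∃ v : G, v = w * x ^ (j * c) := ⟨_, rfl⟩
    have hvR : v ∈ R := by rw [hv]; exact mul_mem hw (zpow_mem h.mem _)
    have hwv : w = v * (x ^ (j * c))⁻¹ := by rw [hv, mul_inv_cancel_right]
    have hxx : x ^ j * (x ^ (j * c) * x ^ (j * c)) = 1 := by
      rw [← zpow_add, ← zpow_add, show j + (j * c + j * c) = j * (p : ℤ) by rw [hc]; push_cast; ring, zpow_mul,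
        zpow_natCast]
      exact h.pow_p j
    have hvi : z * v * z⁻¹ = v⁻¹ := by
      have h1 : z * v * z⁻¹ = (z * w * z⁻¹) * (z * x ^ (j * c) * z⁻¹) := by rw [hv]; group
      rw [h1, hj, h.conj_x, hv, mul_inv_rev]
      have h2 : x ^ j * x ^ (j * c) = (x ^ (j * c))⁻¹ := by
        rw [eq_inv_iff_mul_eq_one, mul_assoc]
        exact hxx
      rw [mul_assoc, h2, ← zpow_neg]
      exact (h.comm_x (inv_mem hw) _).eq
    have hgv : ∀ r ∈ R, ∃ a b : ℤ, r = v ^ a * x ^ b := by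
      intro r hr
      obtain ⟨a, b, hab⟩ := hgen r hr
      refine ⟨a, -(j * c) * a + b, ?_⟩
      rw [hab, hwv, ← zpow_neg, (h.comm_x hvR _).mul_zpow, ← zpow_mul, mul_assoc, ← zpow_add]
    -- `Q` normalizes `⟨v⟩`
    have hvQ : ∀ q ∈ Q, ∃ a : ℤ, q * v * q⁻¹ = v ^ a := by
      intro q hq
      obtain ⟨a, b, hab⟩ := hgv _ ((hQ q hq).1 v hvR)
      refine ⟨a, ?_⟩
      have hqz := (hQ q hq).2.2
      have h1 : z * (q * v * q⁻¹) * z⁻¹ = (q * v * q⁻¹)⁻¹ := by
        have h2 : z * q = q * z := hqz.symm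
        have h3 : q⁻¹ * z⁻¹ = z⁻¹ * q⁻¹ := by rw [← mul_inv_rev, ← mul_inv_rev, h2]
        calc z * (q * v * q⁻¹) * z⁻¹ = (z * q) * v * (q⁻¹ * z⁻¹) := by group
          _ = q * (z * v * z⁻¹) * q⁻¹ := by rw [h2, h3]; group
          _ = _ := by rw [hvi]; group
      rw [hab] at h1
      have h2 : z * (v ^ a * x ^ b) * z⁻¹ = (v ^ a)⁻¹ * x ^ b := by
        calc z * (v ^ a * x ^ b) * z⁻¹ = (z * v ^ a * z⁻¹) * (z * x ^ b * z⁻¹) := by group
          _ = (v ^ a)⁻¹ * x ^ b := by rw [h.conj_x, ← conj_zpow, hvi, inv_zpow]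
      rw [h2, mul_inv_rev, ← zpow_neg x, (h.comm_x (inv_mem (zpow_mem hvR a)) b).eq] at h1
      have h3 : x ^ b = x ^ (-b) := mul_right_cancel h1
      have h4 : (x ^ b) ^ 2 = 1 := by
        rw [pow_two]
        nth_rewrite 1 [h3]
        rw [zpow_neg, inv_mul_cancel]
      rw [hab, h.eq_one h4, mul_one]
    intro r hr
    obtain ⟨m, hm⟩ : ∃ m : G, m = k * l * k⁻¹ * l⁻¹ := ⟨_, rfl⟩
    have hmv : m * v * m⁻¹ = v := by
      obtain ⟨a, ha⟩ := hvQ _ (inv_mem hk)
      obtain ⟨b, hb⟩ := hvQ _ (inv_mem hl)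
      rw [inv_inv] at ha hb
      have ha' : k * v ^ a * k⁻¹ = v := by rw [← ha]; group
      have hb' : l * v ^ b * l⁻¹ = v := by rw [← hb]; group
      calc m * v * m⁻¹ = k * l * (k⁻¹ * (l⁻¹ * v * l) * k) * l⁻¹ * k⁻¹ := by rw [hm]; group
        _ = k * l * (k⁻¹ * v ^ b * k) * l⁻¹ * k⁻¹ := by rw [hb]
        _ = k * l * ((v ^ a) ^ b) * l⁻¹ * k⁻¹ := by
          rw [← ha]
          have h1 : k⁻¹ * v ^ b * k = (k⁻¹ * v * k) ^ b := by
            have := conj_zpow (i := b) (a := k⁻¹) (b := v)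
            rw [inv_inv] at this
            exact this.symm
          rw [h1]
        _ = k * (l * (v ^ b) ^ a * l⁻¹) * k⁻¹ := by rw [← zpow_mul, mul_comm a b, zpow_mul]; group
        _ = k * ((l * v ^ b * l⁻¹) ^ a) * k⁻¹ := by rw [conj_zpow]
        _ = v := by rw [hb', ha']
    have hmx : m * x * m⁻¹ = x := by
      have h1 : m ∈ centralizer ({x} : Set G) := by
        have hkx : k ∈ centralizer ({x} : Set G) := mem_centralizer_singleton_iff.2 (hQ k hk).2.1
        have hlx : l ∈ centralizer ({x} : Set G) := mem_centralizer_singleton_iff.2 (hQ l hl).2.1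
        rw [hm]
        exact mul_mem (mul_mem (mul_mem hkx hlx) (inv_mem hkx)) (inv_mem hlx)
      rw [mem_centralizer_singleton_iff.1 h1, mul_inv_cancel_right]
    rw [← hm]
    obtain ⟨a, b, rfl⟩ := hgv r hr
    calc m * (v ^ a * x ^ b) * m⁻¹ = (m * v ^ a * m⁻¹) * (m * x ^ b * m⁻¹) := by group
      _ = v ^ a * x ^ b := by rw [← conj_zpow, ← conj_zpow, hmv, hmx]

end

/-- **13-elements of the Monster have order dividing 13** -/
theorem thirteen {g : ↥Cfsg.Agent.MonsterX.InstData.M.G} {a : ℕ} (hg : orderOf g = 13 ^ a) : 13 ^ a ∣ 13 := by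
  have hfin := MFive.Row.finite_model
  have hp : Fact (Nat.Prime 13) := ⟨by norm_num⟩
  obtain ⟨x, z, t, Q, h⟩ := H131.T5M13.model_D
  obtain ⟨R, hRp, hxR, hRx, hQR, hRc, hno⟩ := h.hyp.exists_R
  have hz : z ∈ Q := h.hyp.zQ
  have C : Cub 13 x z R := ⟨h.hyp.hx, h.hyp.hp2, hxR, hRx, hRc, by
    rw [← pow_two, ← h.hyp.hz, pow_orderOf_eq_one], hQR z hz, h.hyp.zx, h.hyp.cz⟩
  obtain ⟨k, hk, l, hl, hkl⟩ := h.hyp.nc
  have hexp : ∀ w ∈ R, w ^ 13 = 1 := fun w hw =>
    C.exp (Q := Q) (fun q hq => ⟨hQR q hq, h.hyp.qx q hq, h.hyp.qz q hq⟩) hk hl (hno k hk l hl hkl) hw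
  have hgp : IsPGroup 13 ↥(zpowers g) := IsPGroup.of_card (n := a) (by rw [Nat.card_zpowers, hg])
  obtain ⟨c, hc⟩ := H131.T5M13.exists_conj_le hRc h.hyp.h4 hgp
  have h1 := hexp _ (hc g (mem_zpowers g))
  rw [conj_pow, conj_eq_one_iff] at h1
  rw [← hg]
  exact orderOf_dvd_of_pow_eq_one h1

end Cfsg.Agent.H31.TwoCyc.MThirteen
end
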