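import Cfsg.Agent.H241.NHMonE
import Cfsg.Agent.H241.NHThree
import Cfsg.Agent.H491.PB.ThC
import Cfsg.Agent.S3331
import Cfsg.Agent.Prune
set_option linter.all false
prune_inst 0x7f00000000000000000000000000000000000000000000000000000000000000000000000000000000000000000000000000000000000000000000000000000000000000000000000000000000000000003fffffffffffffffffffffffffffbeffbdffffffff
open scoped Cfsg.Agent.FastGrp

/-!
# The Monster: elements of order 17, 19, 23, 29, 31 (helper31)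

* `h3` : the theorem of Feit and Thompson
* `th19`, `th31`, `exists_three'` : `v` of order 3 with `C(v) ∩ C(y) = ⟨v⟩⟨y⟩`
* `three_of_self` : elements of `C(y)` of order divisible by 3
* `self_all` : the elements of order 17, 19, 23, 29, 31
-/

set_option autoImplicit false
set_option maxRecDepth 100000
set_option linter.unusedSectionVars false

namespace Cfsg.Agent.H31.TwoCyc.MSelf

open Subgroup Cfsg Cfsg.Agent.H241.NH Cfsg.Agent.H241.Mon Cfsg.Agent.LThreeMB

universe u

/-- **Feit and Thompson** -/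
theorem h3 : Three.{0} := Cfsg.Agent.H241.NH.three_of fun X hX hC => Cfsg.Agent.S3331.result X hX hC

section gen

variable {K : Type u} [Group K] [Finite K]

theorem not_sq {t : K} {p : ℕ} [hp : Fact p.Prime] (ht : orderOf t = p) (hC : ∀ g : K, g * t = t * g → g ∈ zpowers t) :
    ¬ p ^ 2 ∣ Nat.card K := by
  intro h9
  have htp : IsPGroup p ↥(zpowers t) := IsPGroup.of_card (n := 1) (by rw [Nat.card_zpowers, ht, pow_one])
  obtain ⟨P, hP⟩ := htp.exists_le_sylow
  have htP : t ∈ (P : Subgroup K) := hP (mem_zpowers t)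
  have hPn : Nontrivial ↥(P : Subgroup K) := by
    refine ⟨⟨⟨t, htP⟩, 1, ?_⟩⟩
    intro h
    have h1 : t = 1 := congrArg Subtype.val h
    rw [h1, orderOf_one] at ht
    exact hp.out.one_lt.ne ht
  have hZn : Nontrivial ↥(Subgroup.center ↥(P : Subgroup K)) := P.isPGroup'.center_nontrivial
  obtain ⟨⟨c, hc⟩, hc1⟩ := exists_ne (1 : ↥(Subgroup.center ↥(P : Subgroup K)))
  have hct : (c : K) * t = t * c := (congrArg Subtype.val (mem_center_iff.1 hc ⟨t, htP⟩)).symm
  have hcz := hC _ hct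
  have hgen : t ∈ zpowers (c : K) := by
    have h2 : (⟨t, mem_zpowers t⟩ : ↥(zpowers t)) ∈ zpowers (⟨c, hcz⟩ : ↥(zpowers t)) :=
      mem_zpowers_of_prime_card (by rw [Nat.card_zpowers, ht])
        (fun h3 => hc1 (Subtype.ext (Subtype.ext (show (c : K) = 1 from congrArg (fun u : ↥(zpowers t) => (u : K)) h3))))
    obtain ⟨j, hj⟩ := mem_zpowers_iff.1 h2
    exact ⟨j, congrArg Subtype.val hj⟩
  obtain ⟨j, hj⟩ := mem_zpowers_iff.1 hgen
  have hle : (P : Subgroup K) ≤ zpowers t := by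
    intro s hs
    apply hC
    rw [← hj]
    have h1 : Commute s (c : K) := congrArg Subtype.val (mem_center_iff.1 hc ⟨s, hs⟩)
    exact (h1.zpow_right j).eq
  have h1 := (P.pow_dvd_card_of_pow_dvd_card h9).trans (card_dvd_of_le hle)
  rw [Nat.card_zpowers, ht] at h1
  have h2 := Nat.le_of_dvd hp.out.pos h1
  nlinarith [hp.out.two_le]

/-- elements of order divisible by `p` have order `p` -/
theorem pow_eq_one {t : K} {p : ℕ} [hp : Fact p.Prime] (ht : orderOf t = p)
    (hC : ∀ g : K, g * t = t * g → g ∈ zpowers t) {g : K} (hg : p ∣ orderOf g) : g ^ p = 1 := by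
  have ho : orderOf (g ^ (orderOf g / p)) = p := orderOf_pow_orderOf_div (orderOf_pos g).ne' hg
  obtain ⟨c, h1, h2⟩ := conj_of_not_sq hp.out (not_sq ht hC) ht ho
  obtain ⟨j, hj⟩ := mem_zpowers_iff.1 h2
  have h4 : c * g * c⁻¹ ∈ zpowers t := by
    apply hC
    rw [← hj]
    have h5 : Commute (c * g * c⁻¹) (c * g ^ (orderOf g / p) * c⁻¹) := by
      rw [← conj_pow]
      exact (Commute.refl _).pow_right _
    exact (h5.zpow_right j).eq
  obtain ⟨i, hi⟩ := mem_zpowers_iff.1 h4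
  have h6 : (c * g * c⁻¹) ^ p = 1 := by
    rw [← hi, ← zpow_natCast, ← zpow_mul, mul_comm, zpow_mul, zpow_natCast, ← ht, pow_orderOf_eq_one, one_zpow]
  rwa [conj_pow, conj_eq_one_iff] at h6

end gen

/-- **elements of `C(y)` of order divisible by 3** -/
theorem three_of_self {G : Type u} [Group G] [Finite G] {v y g : G} {r : ℕ} (hr : r.Prime) (hr3 : 3 ≠ r)
    (hv : orderOf v = 3) (hy : orderOf y = r) (h : Self v y) (hg : g * y = y * g) (hd : 3 ∣ orderOf g) :
    orderOf g ∣ 3 * r := by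
  have hp : Fact (Nat.Prime 3) := ⟨Nat.prime_three⟩
  obtain ⟨ht, hC⟩ := h.quot Nat.prime_three hr hr3 hv hy
  have hpow : ∀ n : ℕ, g ^ n * y = y * g ^ n := fun n => ((show Commute g y from hg).pow_left n).eq
  have hmk : ∀ n : ℕ, mk y (hpow n) = mk y hg ^ n := fun n => rfl
  have key : ∀ n : ℕ, mk y hg ^ n = 1 → orderOf g ∣ n * r := by
    intro n hn
    obtain ⟨i, hi⟩ := (mk_eq_one (hpow n)).1 (by rw [hmk, hn])
    apply orderOf_dvd_of_pow_eq_one
    rw [pow_mul, ← hi, ← zpow_natCast, ← zpow_mul, mul_comm, zpow_mul, zpow_natCast, ← hy, pow_orderOf_eq_one, one_zpow]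
  apply key
  apply pow_eq_one ht hC
  by_contra hcon
  have h1 := hd.trans (key _ (pow_orderOf_eq_one _))
  rcases Nat.prime_three.dvd_mul.1 h1 with h2 | h2
  · exact hcon h2
  · exact hr3 ((Nat.prime_dvd_prime_iff_eq Nat.prime_three hr).1 h2)

/-! ### `Th` -/

theorem th_of_card {q : ℕ} [hq : Fact q.Prime] (hd : q ∣ Nat.card Spor.Th)
    (hc : ∀ y : Spor.Th, orderOf y = q → Nat.card (centralizer ({y} : Set Spor.Th)) = q) :
    ∃ y : Spor.Th, orderOf y = q ∧ ∀ g : Spor.Th, g * y = y * g → g ∈ zpowers y := by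
  have := Cfsg.Agent.H502.TO.fin_th
  obtain ⟨y, hy⟩ := exists_prime_orderOf_dvd_card' q hd
  refine ⟨y, hy, fun g hg => ?_⟩
  have h1 : zpowers y = centralizer ({y} : Set Spor.Th) := by
    refine Subgroup.eq_of_le_of_card_ge ?_ ?_
    · rw [zpowers_le, mem_centralizer_singleton_iff]
    · rw [hc y hy, Nat.card_zpowers, hy]
  rw [h1]
  exact mem_centralizer_singleton_iff.2 hg

theorem th19 : ∃ y : Spor.Th, orderOf y = 19 ∧ ∀ g : Spor.Th, g * y = y * g → g ∈ zpowers y :=
  @th_of_card 19 ⟨by norm_num⟩ (by rw [Cfsg.Agent.H502.TO.card_th]; norm_num) fun _ hy => Cfsg.Agent.H491.PB.Th.card_nineteen hy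

theorem th31 : ∃ y : Spor.Th, orderOf y = 31 ∧ ∀ g : Spor.Th, g * y = y * g → g ∈ zpowers y :=
  @th_of_card 31 ⟨by norm_num⟩ (by rw [Cfsg.Agent.H502.TO.card_th]; norm_num) fun _ hy => Cfsg.Agent.H491.PB.Th.card_thirtyone hy

/-- `v` of order 3 with `C(v) ∩ C(y) = ⟨v⟩⟨y⟩`, `y` of order 19, 31 -/
theorem exists_three' {r : ℕ} (hr : r.Prime) (hr3 : 3 ≠ r) (hr2 : ¬ r ^ 2 ∣ Nat.card Gam)
    (hth : ∃ y : Spor.Th, orderOf y = r ∧ ∀ g : Spor.Th, g * y = y * g → g ∈ zpowers y) {y : Gam}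
    (hy : orderOf y = r) : ∃ v : Gam, orderOf v = 3 ∧ Self v y := by
  obtain ⟨v, hv, -, h⟩ := exists_th
  have hv' : orderOf (v : Gam) = 3 := by rw [Subgroup.orderOf_coe, hv]
  obtain ⟨e⟩ := h
  obtain ⟨y0, hy0, hC⟩ := self_congr e hth
  obtain ⟨y1, hy1, hs⟩ := exists_self Nat.prime_three hr hr3 hv' hy0 hC
  obtain ⟨g, hg⟩ := exists_self_conj hr hr2 hs hy1 hy
  exact ⟨_, by rw [order_conj, hv'], hg⟩

/-- **elements of order 17, 19, 23, 29, 31** -/
theorem self_all {r : ℕ} (hr : r ∈ [17, 19, 23, 29, 31]) {y : Gam} (hy : orderOf y = r) :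
    ∃ v : Gam, orderOf v = 3 ∧ Self v y := by
  simp only [List.mem_cons, List.not_mem_nil, or_false] at hr
  rcases hr with rfl | rfl | rfl | rfl | rfl
  · exact exists_three (r := 17) (by norm_num) (by norm_num) (by rw [card_G]; norm_num) fi17 hy
  · exact exists_three' (r := 19) (by norm_num) (by norm_num) (by rw [card_G]; norm_num) th19 hy
  · exact exists_three (r := 23) (by norm_num) (by norm_num) (by rw [card_G]; norm_num) fi23 hy
  · exact exists_three (r := 29) (by norm_num) (by norm_num) (by rw [card_G]; norm_num) fi29 hy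
  · exact exists_three' (r := 31) (by norm_num) (by norm_num) (by rw [card_G]; norm_num) th31 hy

theorem prime_all {r : ℕ} (hr : r ∈ [17, 19, 23, 29, 31]) : r.Prime ∧ 3 ≠ r := by
  simp only [List.mem_cons, List.not_mem_nil, or_false] at hr
  rcases hr with rfl | rfl | rfl | rfl | rfl <;> norm_num

/-- elements of order divisible by `3 r` -/
theorem three_dvd {r : ℕ} (hr : r ∈ [17, 19, 23, 29, 31]) {g : Gam} (hd : r ∣ orderOf g) (h3 : 3 ∣ orderOf g) :
    orderOf g ∣ 3 * r := by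

  obtain ⟨hp, hne⟩ := prime_all hr
  have hy : orderOf (g ^ (orderOf g / r)) = r := orderOf_pow_orderOf_div (orderOf_pos g).ne' hd
  obtain ⟨v, hv, hs⟩ := self_all hr hy
  exact three_of_self hp hne hv hy hs ((Commute.refl g).pow_right _).eq h3

/-- no commuting elements of orders `r`, `q` -/
theorem not_comm {r : ℕ} (hr : r ∈ [17, 19, 23, 29, 31]) {q : ℕ} (hq : q ∈ [17, 23, 29, 41, 47, 59, 71]) (hqr : q ≠ r)
    {x y : Gam} (hx : orderOf x = q) (hy : orderOf y = r) : x * y ≠ y * x := by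

  obtain ⟨hp, hne⟩ := prime_all hr
  obtain ⟨v, hv, hs⟩ := self_all hr hy
  refine no_comm_of_self h3 hp hne.symm hy hv hs.1 hs.2 (q := q) ?_ ?_ hqr ?_ ?_ x hx
  all_goals
    simp only [List.mem_cons, List.not_mem_nil, or_false] at hq
  · rcases hq with rfl | rfl | rfl | rfl | rfl | rfl | rfl <;> norm_num
  · rcases hq with rfl | rfl | rfl | rfl | rfl | rfl | rfl <;> norm_num
  · rw [card_G]
    rcases hq with rfl | rfl | rfl | rfl | rfl | rfl | rfl <;> norm_num
  · rcases hq with rfl | rfl | rfl | rfl | rfl | rfl | rfl <;> norm_num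

end Cfsg.Agent.H31.TwoCyc.MSelf
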